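import Mathlib
import Groth.Prelude.Def_Smoothing
import Groth.Agent.StdSmooth.Strictly
import Groth.Agent.SmoothRetract.Basic

/-!
Delocalisation of smooth factorisations: some element of the multiplicative set becomes elementary
standard.
-/

set_option autoImplicit false
set_option linter.style.haveILetI false
set_option linter.unusedSimpArgs false

universe u

namespace Groth.Agent.Delocalize

open MvPolynomial TensorProduct

variable {R Rₛ : Type u} [CommRing R] (S : Submonoid R) [CommRing Rₛ] [Algebra R Rₛ] [IsLocalization S Rₛ]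

theorem exists_num {σ : Type*} (p : MvPolynomial σ Rₛ) :
    ∃ t ∈ S, ∃ F : MvPolynomial σ R, map (algebraMap R Rₛ) F = C (algebraMap R Rₛ t) * p := by
  induction p using MvPolynomial.induction_on' with
  | monomial u a =>
    obtain ⟨⟨x, y⟩, hxy⟩ := IsLocalization.surj S a
    refine ⟨y, y.2, monomial u x, ?_⟩
    rw [map_monomial, C_mul_monomial, mul_comm, hxy]
  | add p q hp hq =>
    obtain ⟨t₁, h₁, F₁, e₁⟩ := hp
    obtain ⟨t₂, h₂, F₂, e₂⟩ := hq
    refine ⟨t₁ * t₂, S.mul_mem h₁ h₂, C t₂ * F₁ + C t₁ * F₂, ?_⟩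
    simp only [map_add, map_mul, map_C, e₁, e₂]
    ring

theorem exists_smul_eq_zero {σ : Type*} (p : MvPolynomial σ R) (hp : map (algebraMap R Rₛ) p = 0) :
    ∃ t ∈ S, C t * p = 0 := by
  classical
  have h : ∀ u : σ →₀ ℕ, ∃ t : S, (t : R) * coeff u p = 0 := fun u => by
    refine (IsLocalization.map_eq_zero_iff S Rₛ _).mp ?_
    rw [← coeff_map, hp, coeff_zero]
  choose t ht using h
  refine ⟨∏ u ∈ p.support, (t u : R), S.prod_mem fun u _ => (t u).2, MvPolynomial.ext _ _ fun u => ?_⟩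
  rw [coeff_C_mul, coeff_zero]
  by_cases hu : u ∈ p.support
  · rw [← Finset.mul_prod_erase _ _ hu, mul_right_comm, ht, zero_mul]
  · rw [notMem_support_iff.mp hu, mul_zero]

theorem exists_mul_mem_span {σ ι : Type*} [Fintype ι] (F : ι → MvPolynomial σ R) (p : MvPolynomial σ R)
    (hp : map (algebraMap R Rₛ) p ∈ Ideal.span (Set.range fun i => map (algebraMap R Rₛ) (F i))) :
    ∃ t ∈ S, C t * p ∈ Ideal.span (Set.range F) := by
  classical
  obtain ⟨c, hc⟩ := Ideal.mem_span_range_iff_exists_fun.mp hp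
  choose t ht c' hc' using fun i => exists_num S (c i)
  let T := ∏ i, t i
  have hT : T ∈ S := S.prod_mem fun i _ => ht i
  have h0 : map (algebraMap R Rₛ) (C T * p - ∑ i, C (∏ j ∈ Finset.univ.erase i, t j) * c' i * F i) = 0 := by
    simp only [map_sub, map_sum, map_mul, map_C, hc', ← hc, Finset.mul_sum]
    rw [sub_eq_zero]
    refine Finset.sum_congr rfl fun i _ => ?_
    simp only [T, ← Finset.mul_prod_erase _ _ (Finset.mem_univ i), map_mul]
    ring
  obtain ⟨s, hs, hs0⟩ := exists_smul_eq_zero S _ h0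
  refine ⟨s * T, S.mul_mem hs hT, ?_⟩
  rw [map_mul, mul_assoc, show C s * (C T * p) =
    C s * (∑ i, C (∏ j ∈ Finset.univ.erase i, t j) * c' i * F i) by
      rw [← sub_eq_zero, ← mul_sub]; exact hs0]
  exact Ideal.mul_mem_left _ _ (sum_mem fun i _ => Ideal.mul_mem_left _ _ (Ideal.subset_span ⟨i, rfl⟩))

theorem pderiv_rename_of_notMem_range {R : Type*} [CommRing R] {σ τ : Type*} {f : σ → τ} {i : τ}
    (hi : ∀ j, f j ≠ i) (p : MvPolynomial σ R) : pderiv i (rename f p) = 0 := by
  classical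
  induction p using MvPolynomial.induction_on with
  | C a => simp
  | add p q hp hq => simp only [map_add, hp, hq, add_zero]
  | mul_X p j hp => simp only [map_mul, pderiv_mul, hp, rename_X, pderiv_X_of_ne (hi j), zero_mul, mul_zero, add_zero]

/-- The heart: a submersive presentation over the localisation adapted to the numerators. -/
theorem exists_elementary {A Λ C₀ : Type u} [CommRing A] [Algebra R A] [Algebra.FinitePresentation R A]
    [CommRing Λ] [Algebra R Λ] (φ : A →ₐ[R] Λ) [CommRing C₀] [Algebra Rₛ C₀]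
    [Algebra R C₀] [IsScalarTower R Rₛ C₀]
    (θ : C₀ →ₐ[Rₛ] Rₛ ⊗[R] Λ) (γ : A →ₐ[R] C₀) (hγ : ∀ a, θ (γ a) = 1 ⊗ₜ φ a)
    {n c : ℕ} (ψ : MvPolynomial (Fin n) Rₛ →ₐ[Rₛ] C₀) (hψ : Function.Surjective ψ)
    (f : Fin c → MvPolynomial (Fin n) Rₛ) (hker : RingHom.ker ψ.toRingHom = Ideal.span (Set.range f))
    (sel : Fin c ↪ Fin n)
    (hdet : IsUnit (ψ (Matrix.det (Matrix.of fun i j => pderiv (sel j) (f i)))))
    (lam : Fin n → Λ) (hlam : ∀ i, θ (ψ (X i)) = (1 : Rₛ) ⊗ₜ lam i) :
    ∃ (B : Type u) (_ : CommRing B) (_ : Algebra R B) (α : A →ₐ[R] B) (β : B →ₐ[R] Λ),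
      β.comp α = φ ∧ ∃ s ∈ S, Smoothing.IsElementaryStandard R B (algebraMap R B s) := by
  classical
  obtain ⟨k, π, hπ, hπker⟩ := (inferInstance : Algebra.FinitePresentation R A).out
  obtain ⟨L, g, hg⟩ := Submodule.fg_iff_exists_fin_generating_family.mp hπker
  let mp := map (σ := Fin n) (algebraMap R Rₛ)
  have hθψ : ∀ F : MvPolynomial (Fin n) R, θ (ψ (mp F)) = (1 : Rₛ) ⊗ₜ aeval lam F := by
    intro F
    refine AlgHom.congr_fun
      (φ₁ := ((θ.comp ψ).restrictScalars R).comp (mapAlgHom (Algebra.ofId R Rₛ)))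
      (φ₂ := (Algebra.TensorProduct.includeRight : Λ →ₐ[R] Rₛ ⊗[R] Λ).comp (aeval lam))
      (MvPolynomial.algHom_ext fun i => by simp [hlam]) F
  have hzero : ∀ x : Λ, (1 : Rₛ) ⊗ₜ[R] x = 0 → ∃ t : S, (t : R) • x = 0 := fun x hx => by
    obtain ⟨t, ht⟩ := IsLocalizedModule.exists_of_eq (S := S) (f := TensorProduct.mk R Rₛ Λ 1)
      (x₁ := x) (x₂ := 0) (hx.trans (map_zero _).symm)
    exact ⟨t, by simpa [Submonoid.smul_def] using ht⟩
  have hunit : ∀ t ∈ S, IsUnit (algebraMap R Rₛ t) := fun t ht => IsLocalization.map_units Rₛ (⟨t, ht⟩ : S)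
  -- numerators of the relations
  have hF : ∀ i, ∃ t ∈ S, ∃ F : MvPolynomial (Fin n) R,
      mp F = C (algebraMap R Rₛ t) * f i ∧ aeval lam F = 0 := by
    intro i
    obtain ⟨t, ht, F, hF⟩ := exists_num S (f i)
    have h0 : ψ (f i) = 0 := by
      have : f i ∈ RingHom.ker ψ.toRingHom := hker ▸ Ideal.subset_span ⟨i, rfl⟩
      exact this
    obtain ⟨t', ht'⟩ := hzero (aeval lam F) (by
      rw [← hθψ, show mp F = _ from hF, map_mul, h0, mul_zero, map_zero])
    exact ⟨t' * t, S.mul_mem t'.2 ht, C (t' : R) * F, by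
      rw [map_mul, map_C, show mp F = _ from hF, map_mul, map_mul, mul_assoc], by
      rw [map_mul, aeval_C, ← Algebra.smul_def]; exact ht'⟩
  choose tF htF F hFmap hFlam using hF
  -- numerators of the generators of A
  have hZ : ∀ j, ∃ t ∈ S, ∃ Z : MvPolynomial (Fin n) R,
      ψ (mp Z) = algebraMap R C₀ t * γ (π (X j)) ∧ aeval lam Z = t • φ (π (X j)) := by
    intro j
    obtain ⟨p, hp⟩ := hψ (γ (π (X j)))
    obtain ⟨t, ht, Z, hZ⟩ := exists_num S p
    have h1 : ψ (mp Z) = algebraMap R C₀ t * γ (π (X j)) := by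
      rw [show mp Z = _ from hZ, map_mul, hp, ← MvPolynomial.algebraMap_eq, AlgHom.commutes,
        ← IsScalarTower.algebraMap_apply]
    have h2 : (1 : Rₛ) ⊗ₜ[R] (aeval lam Z - t • φ (π (X j))) = 0 := by
      rw [tmul_sub, ← hθψ, h1, map_mul, hγ, IsScalarTower.algebraMap_apply R Rₛ C₀, AlgHom.commutes,
        ← IsScalarTower.algebraMap_apply, Algebra.algebraMap_eq_smul_one, smul_mul_assoc, one_mul,
        tmul_smul, sub_self]
    obtain ⟨t', ht'⟩ := hzero _ h2
    refine ⟨t' * t, S.mul_mem t'.2 ht, C (t' : R) * Z, ?_, ?_⟩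
    · rw [map_mul, map_C, map_mul, h1, ← MvPolynomial.algebraMap_eq, AlgHom.commutes,
        ← IsScalarTower.algebraMap_apply, map_mul, mul_assoc]
    · rw [map_mul, aeval_C, ← Algebra.smul_def, mul_smul, ← sub_eq_zero, ← smul_sub]
      exact ht'
  choose tZ htZ Z hZψ hZlam using hZ
  -- the presentation
  let y : MvPolynomial (Fin n) R →ₐ[R] MvPolynomial (Fin (n + k)) R := rename (Fin.castAdd k)
  let z : MvPolynomial (Fin k) R →ₐ[R] MvPolynomial (Fin (n + k)) R := rename (Fin.natAdd n)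
  let lead : Fin (c + k) → MvPolynomial (Fin (n + k)) R :=
    Fin.append (fun i => y (F i)) (fun j => C (tZ j) * X (Fin.natAdd n j) - y (Z j))
  let rel : Fin (c + k + L) → MvPolynomial (Fin (n + k)) R := Fin.append lead (fun l => z (g l))
  let Ψ : MvPolynomial (Fin (n + k)) Rₛ →ₐ[Rₛ] C₀ :=
    aeval (Fin.append (fun i => ψ (X i)) (fun j => γ (π (X j))))
  let mp' := map (σ := Fin (n + k)) (algebraMap R Rₛ)
  let y' : MvPolynomial (Fin n) Rₛ →ₐ[Rₛ] MvPolynomial (Fin (n + k)) Rₛ := rename (Fin.castAdd k)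
  have hmy : ∀ q, mp' (y q) = y' (mp q) := fun q => map_rename _ _ q
  have hΨy : ∀ q, Ψ (y' q) = ψ q := fun q => by
    refine AlgHom.congr_fun (φ₁ := Ψ.comp y') (MvPolynomial.algHom_ext fun i => ?_) q
    simp [Ψ, y']
  let J : Ideal (MvPolynomial (Fin (n + k)) Rₛ) := Ideal.span (Set.range fun l => mp' (lead l))
  have hfJ : ∀ q, ψ q = 0 → y' q ∈ J := by
    intro q hq
    have hle : Ideal.span (Set.range f) ≤ J.comap y' := by
      rw [Ideal.span_le]
      rintro _ ⟨i, rfl⟩
      have h := Ideal.subset_span (s := Set.range fun l => mp' (lead l)) ⟨Fin.castAdd k i, rfl⟩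
      have e1 : mp' (lead (Fin.castAdd k i)) = C (algebraMap R Rₛ (tF i)) * y' (f i) := by
        simp only [lead, Fin.append_left, hmy]
        rw [show mp (F i) = _ from hFmap i, map_mul]
        simp [y']
      change mp' (lead (Fin.castAdd k i)) ∈ J at h
      rw [e1] at h
      show y' (f i) ∈ J
      exact (Ideal.unit_mul_mem_iff_mem _ ((hunit _ (htF i)).map C)).mp h
    exact hle (hker ▸ hq)
  -- modulo the leading relations everything reduces to the old variables
  choose p hp using fun j => hψ (γ (π (X j)))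
  have hzJ : ∀ j, X (Fin.natAdd n j) - y' (p j) ∈ J := by
    intro j
    refine (Ideal.unit_mul_mem_iff_mem _ ((hunit _ (htZ j)).map C)).mp ?_
    have h : mp' (lead (Fin.natAdd c j)) ∈ J := Ideal.subset_span ⟨_, rfl⟩
    have h2 : y' (C (algebraMap R Rₛ (tZ j)) * p j - mp (Z j)) ∈ J := hfJ _ (by
      rw [map_sub, hZψ, map_mul, hp, ← MvPolynomial.algebraMap_eq, AlgHom.commutes,
        ← IsScalarTower.algebraMap_apply, sub_self])
    have e2 : C (algebraMap R Rₛ (tZ j)) * (X (Fin.natAdd n j) - y' (p j)) =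
        mp' (lead (Fin.natAdd c j)) - y' (C (algebraMap R Rₛ (tZ j)) * p j - mp (Z j)) := by
      simp only [lead, Fin.append_right, map_sub, map_mul, hmy]
      simp [mp', y']
      ring
    rw [e2]
    exact sub_mem h h2
  have hΨJ : ∀ q, Ψ q = 0 → q ∈ J := by
    intro q hq
    let E : MvPolynomial (Fin (n + k)) Rₛ →ₐ[Rₛ] MvPolynomial (Fin n) Rₛ := aeval (Fin.append X p)
    have hE : (Ideal.Quotient.mkₐ Rₛ J).comp (y'.comp E) = Ideal.Quotient.mkₐ Rₛ J := by
      refine MvPolynomial.algHom_ext fun i => ?_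
      induction i using Fin.addCases with
      | left i => simp [E, y']
      | right j =>
        simp only [AlgHom.comp_apply, E, aeval_X, Fin.append_right, Ideal.Quotient.mkₐ_eq_mk]
        exact (Ideal.Quotient.eq.mpr (hzJ j)).symm
    have hψE : ψ (E q) = 0 := by
      refine (AlgHom.congr_fun (φ₁ := ψ.comp E) (φ₂ := Ψ) (MvPolynomial.algHom_ext fun i => ?_) q).trans hq
      induction i using Fin.addCases with
      | left i => simp [E, Ψ]
      | right j => simp [E, Ψ, hp]
    rw [← Ideal.Quotient.eq_zero_iff_mem, ← Ideal.Quotient.mkₐ_eq_mk Rₛ, ← hE]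
    simp only [AlgHom.comp_apply, Ideal.Quotient.mkₐ_eq_mk, Ideal.Quotient.eq_zero_iff_mem]
    exact hfJ _ hψE
  have hg0 : ∀ l, π (g l) = 0 := fun l => by
    have : g l ∈ RingHom.ker π.toRingHom := hg ▸ Ideal.subset_span ⟨l, rfl⟩
    exact this
  have htail : ∀ l, ∃ t ∈ S, C t * z (g l) ∈ Ideal.span (Set.range lead) := fun l => by
    refine exists_mul_mem_span S lead _ (hΨJ _ ?_)
    have h := AlgHom.congr_fun (φ₁ := ((Ψ.restrictScalars R).comp (mapAlgHom (Algebra.ofId R Rₛ))).comp z)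
      (φ₂ := γ.comp π) (MvPolynomial.algHom_ext fun j => by simp [Ψ, z]) (g l)
    simp only [AlgHom.comp_apply, hg0, map_zero] at h
    exact h
  choose tg htg hgmem using htail
  -- the minor
  let det₀ := Matrix.det (Matrix.of fun i j => pderiv (sel j) (F i))
  have hdet₀ : IsUnit (ψ (mp det₀)) := by
    have : mp det₀ = C (∏ i, algebraMap R Rₛ (tF i)) * Matrix.det (Matrix.of fun i j => pderiv (sel j) (f i)) := by
      rw [RingHom.map_det, map_prod, ← Matrix.det_mul_column]
      refine congrArg Matrix.det (Matrix.ext fun i j => ?_)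
      simp only [RingHom.mapMatrix_apply, Matrix.map_apply, Matrix.of_apply, mp, ← pderiv_map]
      rw [show map (algebraMap R Rₛ) (F i) = _ from hFmap i, pderiv_C_mul]
    rw [this, map_mul]
    refine IsUnit.mul ?_ hdet
    exact (IsUnit.prod_univ_iff.mpr fun i => hunit _ (htF i)).map C |>.map ψ
  obtain ⟨w, hw⟩ := hψ ((hdet₀.unit⁻¹ : C₀ˣ) : C₀)
  obtain ⟨tH, htH, H, hH⟩ := exists_num S w
  have hHmem : mp' (y (H * det₀ - C tH)) ∈ J := by
    rw [hmy]
    refine hfJ _ ?_
    simp only [map_sub, map_mul]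
    rw [show mp H = _ from hH, map_mul, hw, mul_assoc, IsUnit.val_inv_mul, mul_one, sub_eq_zero]
    exact congrArg ψ (map_C _ _).symm
  obtain ⟨t₂, ht₂, ht₂mem⟩ := exists_mul_mem_span S lead _ hHmem
  let T := ∏ l, tg l
  let U := ∏ j, tZ j
  let s := T * (t₂ * tH * U)
  have hs : s ∈ S := S.mul_mem (S.prod_mem fun l _ => htg l)
    (S.mul_mem (S.mul_mem ht₂ htH) (S.prod_mem fun j _ => htZ j))
  let B := MvPolynomial (Fin (n + k)) R ⧸ Ideal.span (Set.range rel)
  let q₀ : MvPolynomial (Fin (n + k)) R →ₐ[R] B := Ideal.Quotient.mkₐ R _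
  have hq₀ : ∀ v ∈ Ideal.span (Set.range lead), q₀ v = 0 := fun v hv => by
    refine Ideal.Quotient.eq_zero_iff_mem.mpr (Ideal.span_mono ?_ hv)
    rintro _ ⟨i, rfl⟩
    exact ⟨Fin.castAdd L i, Fin.append_left _ _ _⟩
  let α : A →ₐ[R] B := AlgHom.liftOfSurjective π hπ (q₀.comp z) (fun v hv => by
    have hle : Ideal.span (Set.range g) ≤ RingHom.ker (q₀.comp z) := by
      rw [Ideal.span_le]
      rintro _ ⟨l, rfl⟩
      exact Ideal.Quotient.eq_zero_iff_mem.mpr
        (Ideal.subset_span ⟨Fin.natAdd (c + k) l, Fin.append_right _ _ _⟩)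
    exact hle ((SetLike.ext_iff.mp hg v).mpr hv))
  let ev : MvPolynomial (Fin (n + k)) R →ₐ[R] Λ := aeval (Fin.append lam fun j => φ (π (X j)))
  have hevy : ∀ v, ev (y v) = aeval lam v := fun v => by
    refine AlgHom.congr_fun (φ₁ := ev.comp y) (MvPolynomial.algHom_ext fun i => ?_) v
    simp [ev, y]
  have hevz : ∀ v, ev (z v) = φ (π v) := fun v => by
    refine AlgHom.congr_fun (φ₁ := ev.comp z) (φ₂ := φ.comp π) (MvPolynomial.algHom_ext fun i => ?_) v
    simp [ev, z]
  let β : B →ₐ[R] Λ := Ideal.Quotient.liftₐ _ ev (fun v hv => by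
    refine (Ideal.span_le (I := RingHom.ker ev)).mpr ?_ hv
    rintro _ ⟨i, rfl⟩
    induction i using Fin.addCases with
    | left i =>
      simp only [rel, Fin.append_left, SetLike.mem_coe, RingHom.mem_ker]
      induction i using Fin.addCases with
      | left i => simp only [lead, Fin.append_left, hevy, hFlam]
      | right j =>
        simp only [lead, Fin.append_right, map_sub, map_mul, hevy, hZlam, Algebra.smul_def]
        simp [ev]
    | right l => simp only [rel, Fin.append_right, SetLike.mem_coe, RingHom.mem_ker, hevz, hg0, map_zero])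
  refine ⟨B, inferInstance, inferInstance, α, β, AlgHom.ext fun a => ?_, s, hs, ?_⟩
  · obtain ⟨v, rfl⟩ := hπ a
    change β (α (π v)) = _
    rw [AlgHom.liftOfSurjective_apply]
    exact hevz v
  let cols : Fin (c + k) ↪ Fin (n + k) := ⟨Fin.append (fun i => Fin.castAdd k (sel i)) (Fin.natAdd n),
    Fin.append_injective_iff.mpr ⟨(Fin.castAdd_injective _ _).comp sel.injective, Fin.natAdd_injective _ _,
      fun i j h => by have := congrArg Fin.val h; simp at this; omega⟩⟩
  let rows : Fin (c + k) ↪ Fin (c + k + L) := ⟨Fin.castAdd L, Fin.castAdd_injective _ _⟩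
  have hminor : Smoothing.jacobianMinor rel rows cols = y det₀ * C U := by
    have hM : (Matrix.of fun i j => pderiv (cols j) (rel (rows i))).submatrix finSumFinEquiv finSumFinEquiv =
        Matrix.fromBlocks (Matrix.of fun i j => y (pderiv (sel j) (F i))) 0
          (Matrix.of fun i j => pderiv (Fin.castAdd k (sel j)) (lead (Fin.natAdd c i)))
          (Matrix.diagonal fun j => (C (tZ j) : MvPolynomial (Fin (n + k)) R)) := by
      refine Matrix.ext fun i j => ?_
      rcases i with i | i <;> rcases j with j | j <;>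
        simp only [Matrix.submatrix_apply, Matrix.of_apply, finSumFinEquiv_apply_left,
          finSumFinEquiv_apply_right, Matrix.fromBlocks_apply₁₁, Matrix.fromBlocks_apply₁₂,
          Matrix.fromBlocks_apply₂₁, Matrix.fromBlocks_apply₂₂, Matrix.zero_apply, cols, rows,
          Function.Embedding.coeFn_mk, rel, Fin.append_left, Fin.append_right, lead]
      · exact pderiv_rename (Fin.castAdd_injective _ _) _ _
      · exact pderiv_rename_of_notMem_range (fun a h => by
          have := congrArg Fin.val h; simp at this; omega) _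
      · rw [map_sub, pderiv_rename_of_notMem_range (fun a h => by
          have := congrArg Fin.val h; simp at this; omega), sub_zero, pderiv_C_mul]
        rcases eq_or_ne i j with rfl | hij
        · rw [pderiv_X_self, mul_one, Matrix.diagonal_apply_eq]
        · rw [pderiv_X_of_ne (fun h => hij ((Fin.natAdd_injective _ _) h)), mul_zero,
            Matrix.diagonal_apply_ne _ hij]
    rw [Smoothing.jacobianMinor, ← Matrix.det_submatrix_equiv_self finSumFinEquiv, hM,
      Matrix.det_fromBlocks_zero₁₂, Matrix.det_diagonal, ← map_prod]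
    congr 1
    exact (y.toRingHom.map_det _).symm
  refine Groth.Agent.StdSmooth.isElementaryStandard_of_choice rel q₀ Ideal.Quotient.mk_surjective
    (Ideal.mk_ker) rows cols _ (q₀ (C T * C t₂ * y H)) ?_ fun a₁ ha₁ l => ?_
  · rw [hminor, ← map_mul]
    have h := hq₀ _ (Ideal.mul_mem_left _ (C T * C U) ht₂mem)
    rw [← sub_eq_zero] 
    have e : (algebraMap R B s) = q₀ (C s) := (q₀.commutes s).symm
    rw [e, ← map_sub, ← neg_sub, map_neg, neg_eq_zero]
    refine Eq.trans ?_ h
    congr 1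
    simp only [s, map_mul, map_sub, y, rename_C]
    ring
  · have hlead : Ideal.span (Set.range lead) ≤ Ideal.span (Set.range (rel ∘ rows)) :=
      Ideal.span_mono (by rintro _ ⟨i, rfl⟩; exact ⟨i, Fin.append_left _ _ _⟩)
    have h0 : a₁ - C s ∈ Ideal.span (Set.range rel) := by
      rw [← Ideal.Quotient.eq_zero_iff_mem]
      change q₀ (a₁ - C s) = 0
      rw [map_sub, ha₁, ← q₀.commutes s]
      exact sub_self _
    rw [show a₁ * rel l = (a₁ - C s) * rel l + C s * rel l by ring]
    refine add_mem (Submodule.mem_sup_right ?_) (Submodule.mem_sup_left (hlead ?_))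
    · rw [sq]; exact Ideal.mul_mem_mul h0 (Ideal.subset_span ⟨l, rfl⟩)
    · induction l using Fin.addCases with
      | left i =>
        simp only [rel, Fin.append_left]
        exact Ideal.mul_mem_left _ _ (Ideal.subset_span ⟨i, rfl⟩)
      | right l =>
        simp only [rel, Fin.append_right, s]
        rw [show C (T * (t₂ * tH * U)) * z (g l) =
          (C (∏ j ∈ Finset.univ.erase l, tg j) * C (t₂ * tH * U)) * (C (tg l) * z (g l)) by
            simp only [T, ← Finset.mul_prod_erase _ _ (Finset.mem_univ l), map_mul]; ring]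
        exact Ideal.mul_mem_left _ _ (hgmem l)

theorem delocalize {A Λ B' : Type u} [CommRing A] [Algebra R A] [Algebra.FinitePresentation R A]
    [CommRing Λ] [Algebra R Λ] (φ : A →ₐ[R] Λ) [CommRing B'] [Algebra Rₛ B'] [Algebra.Smooth Rₛ B']
    (g : Rₛ ⊗[R] A →ₐ[Rₛ] B') (h : B' →ₐ[Rₛ] Rₛ ⊗[R] Λ)
    (hgh : h.comp g = Algebra.TensorProduct.map (AlgHom.id Rₛ Rₛ) φ) :
    ∃ (B : Type u) (_ : CommRing B) (_ : Algebra R B) (α : A →ₐ[R] B) (β : B →ₐ[R] Λ),
      β.comp α = φ ∧ ∃ s ∈ S, Smoothing.IsElementaryStandard R B (algebraMap R B s) := by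
  classical
  obtain ⟨C₀, _, _, _, _, -, ⟨ret⟩, hstd⟩ := Groth.Agent.SmoothRetract.exists_retract (R := Rₛ) (A := B')
  letI : Algebra R C₀ := ((algebraMap Rₛ C₀).comp (algebraMap R Rₛ)).toAlgebra
  haveI : IsScalarTower R Rₛ C₀ := IsScalarTower.of_algebraMap_eq' rfl
  obtain ⟨ι, σ, _, _, ⟨P₀⟩⟩ := hstd.out
  let P := P₀.reindex (Finite.equivFin ι).symm (Finite.equivFin σ).symm
  let θ : C₀ →ₐ[Rₛ] Rₛ ⊗[R] Λ := h.comp (ret.restrictScalars Rₛ)
  let ψ₀ : MvPolynomial (Fin (Nat.card ι)) Rₛ →ₐ[Rₛ] C₀ := aeval P.val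
  -- rescale the variables to make their images integral
  have hlam : ∀ i, ∃ (t : S) (l : Λ), (t : R) • θ (P.val i) = (1 : Rₛ) ⊗ₜ l := fun i => by
    obtain ⟨⟨l, t⟩, hl⟩ := IsLocalizedModule.surj S (TensorProduct.mk R Rₛ Λ 1) (θ (P.val i))
    exact ⟨t, l, hl⟩
  choose t lam hlam using hlam
  have ht : ∀ i, IsUnit (algebraMap R Rₛ (t i)) := fun i => IsLocalization.map_units Rₛ (t i)
  let sc : MvPolynomial (Fin (Nat.card ι)) Rₛ →ₐ[Rₛ] MvPolynomial (Fin (Nat.card ι)) Rₛ :=
    aeval fun i => C (algebraMap R Rₛ (t i)) * X i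
  let sc' : MvPolynomial (Fin (Nat.card ι)) Rₛ →ₐ[Rₛ] MvPolynomial (Fin (Nat.card ι)) Rₛ :=
    aeval fun i => C (((ht i).unit⁻¹ : Rₛˣ) : Rₛ) * X i
  have hsc : ∀ q, sc (sc' q) = q := fun q => by
    refine AlgHom.congr_fun (φ₁ := sc.comp sc') (φ₂ := AlgHom.id _ _) (MvPolynomial.algHom_ext fun i => ?_) q
    simp only [AlgHom.comp_apply, sc, sc', aeval_X, map_mul, aeval_C, MvPolynomial.algebraMap_eq,
      AlgHom.id_apply]
    rw [← mul_assoc, ← C.map_mul, IsUnit.val_inv_mul, map_one, one_mul]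
  have hsc' : ∀ q, sc' (sc q) = q := fun q => by
    refine AlgHom.congr_fun (φ₁ := sc'.comp sc) (φ₂ := AlgHom.id _ _) (MvPolynomial.algHom_ext fun i => ?_) q
    simp only [AlgHom.comp_apply, sc, sc', aeval_X, map_mul, aeval_C, MvPolynomial.algebraMap_eq,
      AlgHom.id_apply]
    rw [← mul_assoc, ← C.map_mul, IsUnit.mul_val_inv, map_one, one_mul]
  have hker₀ : RingHom.ker ψ₀.toRingHom = Ideal.span (Set.range P.relation) := by
    rw [P.span_range_relation_eq_ker, P.toGenerators.ker_eq_ker_aeval_val]; rfl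
  let γ : A →ₐ[R] C₀ :=
    { toRingHom := ((algebraMap B' C₀).comp g.toRingHom).comp
        (Algebra.TensorProduct.includeRight : A →ₐ[R] Rₛ ⊗[R] A).toRingHom
      commutes' := fun r => by
        change algebraMap B' C₀ (g ((1 : Rₛ) ⊗ₜ[R] algebraMap R A r)) = _
        rw [← Algebra.TensorProduct.includeRight_apply, AlgHom.commutes,
          IsScalarTower.algebraMap_apply R Rₛ (Rₛ ⊗[R] A), g.commutes,
          ← IsScalarTower.algebraMap_apply Rₛ B' C₀]
        rfl }
  have hγ : ∀ a, θ (γ a) = (1 : Rₛ) ⊗ₜ[R] φ a := fun a => by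
    change h (ret (algebraMap B' C₀ (g ((1 : Rₛ) ⊗ₜ[R] a)))) = _
    rw [AlgHom.commutes]
    exact (congrArg (fun e : Rₛ ⊗[R] A →ₐ[Rₛ] Rₛ ⊗[R] Λ => e ((1 : Rₛ) ⊗ₜ[R] a)) hgh).trans (by simp)
  have hψ₀ : Function.Surjective ψ₀ := fun x => ⟨P.σ x, P.aeval_val_σ x⟩
  refine exists_elementary S φ θ γ hγ (ψ₀.comp sc) (fun x => ?_)
    (fun j => sc' (P.relation j)) ?_ ⟨P.map, P.map_inj⟩ ?_ lam ?_
  · obtain ⟨q, rfl⟩ := hψ₀ x
    exact ⟨sc' q, by rw [AlgHom.comp_apply, hsc]⟩
  · ext q
    constructor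
    · intro hq
      have h1 : sc q ∈ Ideal.span (Set.range P.relation) := hker₀ ▸ hq
      have h2 := Ideal.mem_map_of_mem sc'.toRingHom h1
      rw [Ideal.map_span, ← Set.range_comp] at h2
      change sc' (sc q) ∈ _ at h2
      rw [hsc'] at h2
      exact h2
    · intro hq
      refine (Ideal.span_le.mpr ?_) hq
      rintro _ ⟨j, rfl⟩
      have h1 : P.relation j ∈ RingHom.ker ψ₀.toRingHom := hker₀ ▸ Ideal.subset_span ⟨j, rfl⟩
      change ψ₀ (sc (sc' (P.relation j))) = 0
      rw [hsc]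
      exact h1
  · let u : Fin (Nat.card ι) → MvPolynomial (Fin (Nat.card ι)) Rₛ := fun i => C (((ht i).unit⁻¹ : Rₛˣ) : Rₛ)
    have hd : ∀ i j, pderiv (P.map j) (sc' (P.relation i)) = sc' (pderiv (P.map j) (P.relation i)) * u (P.map j) := by
      intro i j
      rw [show sc' (P.relation i) = aeval (fun i => u i * X i) (P.relation i) from rfl,
        Groth.Agent.SmoothRetract.pderiv_aeval, Finset.sum_eq_single (P.map j)]
      · simp [u, sc']
      · intro b _ hb
        simp [u, pderiv_X_of_ne hb]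
      · simp
    have hM : (Matrix.of fun i j => pderiv (P.map j) (sc' (P.relation i))) =
        sc'.toRingHom.mapMatrix P.jacobiMatrix.transpose * Matrix.diagonal (fun j => u (P.map j)) := by
      refine Matrix.ext fun i j => ?_
      rw [Matrix.mul_diagonal]
      simp only [RingHom.mapMatrix_apply, Matrix.map_apply, Matrix.transpose_apply, Matrix.of_apply,
        Algebra.PreSubmersivePresentation.jacobiMatrix_apply]
      exact hd i j
    change IsUnit (ψ₀ (sc (Matrix.det (Matrix.of fun i j => pderiv (P.map j) (sc' (P.relation i))))))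
    rw [hM, Matrix.det_mul, ← RingHom.map_det, Matrix.det_transpose, Matrix.det_diagonal]
    simp only [map_mul, map_prod]
    refine IsUnit.mul ?_ (IsUnit.prod_univ_iff.mpr fun j => ?_)
    · change IsUnit (ψ₀ (sc (sc' P.jacobiMatrix.det)))
      rw [hsc]
      have := P.jacobian_isUnit
      rw [Algebra.PreSubmersivePresentation.jacobian_eq_jacobiMatrix_det] at this
      exact this
    · exact (((Units.isUnit _).map C).map sc).map ψ₀
  · intro i
    change θ (ψ₀ (sc (X i))) = _
    simp only [sc, aeval_X, map_mul, ψ₀, aeval_C, MvPolynomial.algebraMap_eq]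
    rw [AlgHom.commutes, ← Algebra.smul_def, algebraMap_smul]
    exact hlam i

end Groth.Agent.Delocalize
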